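import Mathlib
import Groth.Agent.H22Alg.GlobalFunctions

/-!
# The rigidity lemma

A morphism out of `X ×ₖ Y`, with `X` proper geometrically integral, which maps one fibre over `Y`
into an affine open of a separated target factors through the projection to `Y`.
-/

set_option autoImplicit false
set_option linter.style.haveILetI false
universe u

open CategoryTheory CategoryTheory.Limits AlgebraicGeometry TopologicalSpace

namespace Groth.Agent.H25Rig

variable {k : Type u} [Field k]

/-- The global functions of a proper geometrically integral scheme over a field are the constants. -/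
theorem bijective_appTop {X : Scheme.{u}} (f : X ⟶ Spec (CommRingCat.of k)) [IsProper f] [GeometricallyIntegral f] :
    Function.Bijective f.appTop := by
  haveI : IsIntegral X := GeometricallyIntegral.isIntegral_of_subsingleton f
  haveI : GeometricallyConnected f := ⟨fun K _ y Z a b hh => by
      haveI := GeometricallyIrreducible.geometrically_irreducibleSpace (f := f) y a b hh
      infer_instance⟩
  letI := Groth.Agent.H22Alg.GlobalFunctions.algΓ f
  haveI := Groth.Agent.H22Alg.GlobalFunctions.finite_algΓ f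
  have h1 := Groth.Agent.H22Alg.GlobalFunctions.finrank_algΓ_eq_one f
  have hb : Function.Bijective (algebraMap k Γ(X, ⊤)) :=
    ⟨(algebraMap k Γ(X, ⊤)).injective,
      (LinearMap.injective_iff_surjective_of_finrank_eq_finrank (f := Algebra.linearMap k Γ(X, ⊤))
        (by rw [h1, Module.finrank_self])).mp (algebraMap k Γ(X, ⊤)).injective⟩
  exact (Function.Bijective.of_comp_iff _
    (Scheme.ΓSpecIso (CommRingCat.of k)).symm.commRingCatIsoToRingEquiv.bijective).mp hb

/-- Over an affine `T`, the functions on `X ×ₖ T` are those on `T`, when `X` has only constant functions. -/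
theorem isIso_appTop_of_isPullback {X T P : Scheme.{u}} {f : X ⟶ Spec (CommRingCat.of k)}
    [QuasiCompact f] [QuasiSeparated f] {t : T ⟶ Spec (CommRingCat.of k)} [IsAffine T]
    {a : P ⟶ X} {b : P ⟶ T} (H : IsPullback a b f t) (hf : Function.Bijective f.appTop) :
    IsIso b.appTop := by
  haveI hiso : IsIso f.appTop := (ConcreteCategory.isIso_iff_bijective _).mpr hf
  haveI : CompactSpace X := (quasiCompact_iff_compactSpace f).mp inferInstance
  haveI : QuasiSeparatedSpace X := (quasiSeparated_iff_quasiSeparatedSpace f).mp inferInstance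
  have hpo := (isIso_pushoutSection_iff H (US := ⊤) (UT := ⊤) (UX := ⊤) (UY := ⊤)
    (by simp) (by simp) (by simp)).mp
    (isIso_pushoutSection_of_isQuasiSeparated_of_flat_right _ (UX := ⊤) _ _ _ (isAffineOpen_top _) (isAffineOpen_top _)
      (by simpa using isCompact_univ) (by simpa using isQuasiSeparated_univ))
  haveI : IsIso (f.appLE ⊤ ⊤ (by simp)) := by
    simpa [Scheme.Hom.appLE, Scheme.Hom.appTop] using hiso
  haveI := hpo.isIso_inr_of_isIso
  have h : IsIso (b.appLE ⊤ ⊤ (by simp)) := inferInstance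
  simpa [Scheme.Hom.appLE, Scheme.Hom.appTop] using h

/-- A morphism to an affine scheme factors through any morphism inducing an isomorphism on functions. -/
theorem exists_factor_of_isIso_appTop {P T U : Scheme.{u}} [IsAffine U] (b : P ⟶ T) [IsIso b.appTop] (c : P ⟶ U) :
    ∃ g : T ⟶ U, b ≫ g = c := by
  refine ⟨T.toSpecΓ ≫ Spec.map (c.appTop ≫ inv b.appTop) ≫ U.isoSpec.inv, ?_⟩
  rw [Scheme.toSpecΓ_naturality_assoc, ← Spec.map_comp_assoc, Category.assoc, IsIso.inv_hom_id,
    Category.comp_id, ← Scheme.toSpecΓ_naturality_assoc]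
  simp [Scheme.isoSpec]

/-- **Rigidity lemma**: if the fibre over one point of `Y` is mapped into an affine open, the morphism factors
through the projection. -/
theorem exists_factor_snd {X Y Z : Scheme.{u}} (f : X ⟶ Spec (CommRingCat.of k)) [IsProper f] [GeometricallyIntegral f]
    (g : Y ⟶ Spec (CommRingCat.of k)) [LocallyOfFiniteType g] [GeometricallyIntegral g]
    (h : Z ⟶ Spec (CommRingCat.of k)) [IsSeparated h]
    (a : pullback f g ⟶ Z) (ha : a ≫ h = pullback.snd f g ≫ g) (y₀ : Y) (U : Z.Opens) (hU : IsAffineOpen U)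
    (hy₀ : ∀ p, pullback.snd f g p = y₀ → a p ∈ U) :
    ∃! b : Y ⟶ Z, pullback.snd f g ≫ b = a := by
  set p := pullback.snd f g
  haveI : IsIntegral Y := GeometricallyIntegral.isIntegral_of_subsingleton g
  haveI : IsLocallyNoetherian Y := LocallyOfFiniteType.isLocallyNoetherian g
  haveI : LocallyOfFiniteType (p ≫ g) := inferInstance
  haveI : IsIntegral (pullback f g) := inferInstance
  haveI : IsLocallyNoetherian (pullback f g) := LocallyOfFiniteType.isLocallyNoetherian (p ≫ g)
  haveI : LocallyOfFinitePresentation p := inferInstance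
  haveI : IsIntegral (pullback p p) := inferInstance
  haveI : Surjective p := inferInstance
  -- an affine open over which `a` lands in `U`
  have hclosed : IsClosed (p '' (a ⁻¹' (U : Set Z)ᶜ)) :=
    p.isClosedMap _ (U.isOpen.isClosed_compl.preimage a.continuous)
  have hy : y₀ ∈ (p '' (a ⁻¹' (U : Set Z)ᶜ))ᶜ := by
    rintro ⟨q, hq, hq'⟩
    exact hq (hy₀ q hq')
  obtain ⟨V, hV, hyV, hVsub⟩ := exists_isAffineOpen_mem_and_subset (U := ⟨_, hclosed.isOpen_compl⟩) hy
  have hVU : p ⁻¹ᵁ V ≤ a ⁻¹ᵁ U := fun q hq => by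
    by_contra hq'
    exact hVsub hq ⟨q, hq', rfl⟩
  haveI : IsAffine (V : Scheme.{u}) := hV
  haveI : IsAffine (U : Scheme.{u}) := hU
  have H : IsPullback ((p ⁻¹ᵁ V).ι ≫ pullback.fst f g) (p ∣_ V) f (V.ι ≫ g) :=
    (isPullback_morphismRestrict p V).flip.paste_horiz (IsPullback.of_hasPullback f g)
  haveI := isIso_appTop_of_isPullback H (bijective_appTop f)
  obtain ⟨g₁, hg₁⟩ := exists_factor_of_isIso_appTop (p ∣_ V)
    (a.resLE U (p ⁻¹ᵁ V) hVU)
  have hg₁' : (p ∣_ V) ≫ g₁ ≫ U.ι = (p ⁻¹ᵁ V).ι ≫ a := by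
    rw [← Category.assoc, hg₁, Scheme.Hom.resLE_comp_ι]
  -- descent along `p`
  have key : pullback.fst p p ≫ a = pullback.snd p p ≫ a := by
    let W : (pullback p p).Opens := (pullback.fst p p ≫ p) ⁻¹ᵁ V
    haveI : IsDominant W.ι := by
      refine ⟨?_⟩
      rw [DenseRange, Scheme.Opens.range_ι]
      refine W.isOpen.dense ?_
      obtain ⟨q, hq⟩ := (pullback.fst p p ≫ p).surjective y₀
      exact ⟨q, by show (pullback.fst p p ≫ p) q ∈ V; rw [hq]; exact hyV⟩
    refine ext_of_isDominant_of_isSeparated h ?_ W.ι ?_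
    · rw [Category.assoc, Category.assoc, ha, pullback.condition_assoc]
    · have h1 : ∀ e : pullback p p ⟶ pullback f g, ∀ he : e ≫ p = pullback.fst p p ≫ p,
          W.ι ≫ e ≫ a = (pullback.fst p p ≫ p) ∣_ V ≫ g₁ ≫ U.ι := by
        intro e he
        have hle : W ≤ e ⁻¹ᵁ (p ⁻¹ᵁ V) := by
          show W ≤ (e ≫ p) ⁻¹ᵁ V
          rw [he]
        have h3 : e.resLE (p ⁻¹ᵁ V) W hle ≫ (p ∣_ V) = (pullback.fst p p ≫ p) ∣_ V := by
          rw [← cancel_mono V.ι, Category.assoc, morphismRestrict_ι, Scheme.Hom.resLE_comp_ι_assoc, he,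
            morphismRestrict_ι]
        rw [← h3, Category.assoc, hg₁', Scheme.Hom.resLE_comp_ι_assoc]
      rw [h1 _ rfl, h1 _ pullback.condition.symm]
  have hdesc : ∀ {W : Scheme.{u}} (g₁ g₂ : W ⟶ pullback f g), g₁ ≫ p = g₂ ≫ p → g₁ ≫ a = g₂ ≫ a := by
    intro W e₁ e₂ he
    rw [← pullback.lift_fst (f := p) (g := p) e₁ e₂ he, Category.assoc, key, pullback.lift_snd_assoc]
  exact ⟨EffectiveEpi.desc p a hdesc, EffectiveEpi.fac p a hdesc, fun b hb => EffectiveEpi.uniq p a hdesc b hb⟩

end Groth.Agent.H25Rig
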