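import Groth.Agent.S18368
import Mathlib

/-!
# Morphisms from proper geometrically integral schemes to separated group schemes
-/

set_option autoImplicit false
set_option linter.style.haveILetI false
universe u

open CategoryTheory CategoryTheory.Limits MonoidalCategory CartesianMonoidalCategory MonObj GrpObj AlgebraicGeometry

namespace Groth.Agent.H25Rig

variable {k : Type u} [Field k]

theorem geometricallyIntegral_comp {X Y : Scheme.{u}} (p : X ⟶ Y) [GeometricallyIntegral p] [Flat p]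
    [UniversallyOpen p] (g : Y ⟶ Spec (CommRingCat.of k)) [GeometricallyIntegral g] [LocallyOfFiniteType g] :
    GeometricallyIntegral (p ≫ g) := by
  rw [GeometricallyIntegral.eq_geometrically]
  intro K _ x Z fst snd hZ
  haveI : LocallyOfFiniteType (pullback.snd g x) := inferInstance
  haveI : IsLocallyNoetherian (pullback g x) := LocallyOfFiniteType.isLocallyNoetherian (pullback.snd g x)
  haveI : IsIntegral (pullback g x) := GeometricallyIntegral.isIntegral_of_subsingleton (pullback.snd g x)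
  haveI : IsIntegral (pullback p (pullback.fst g x)) := inferInstance
  haveI := IsIntegral.of_isIso (pullbackRightPullbackFstIso g x p).hom
  exact IsIntegral.of_isIso hZ.isoPullback.inv

instance geometricallyIntegral_tensor (X Y : Over (Spec (CommRingCat.of k))) [GeometricallyIntegral X.hom]
    [GeometricallyIntegral Y.hom] [LocallyOfFiniteType X.hom] [LocallyOfFiniteType Y.hom] :
    GeometricallyIntegral (X ⊗ Y).hom := by
  rw [Over.tensorObj_hom, pullback.condition]
  exact geometricallyIntegral_comp _ _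

/-- A morphism constant on one rational slice factors through the projection (separated target). -/
theorem exists_factor_of_const {X Y Z : Over (Spec (CommRingCat.of k))} [IsProper X.hom] [GeometricallyIntegral X.hom]
    [QuasiCompact Y.hom] [LocallyOfFiniteType Y.hom] [GeometricallyIntegral Y.hom] [IsSeparated Z.hom]
    (f : X ⊗ Y ⟶ Z) (y₀ : 𝟙_ (Over (Spec (CommRingCat.of k))) ⟶ Y) (z₀ : 𝟙_ (Over (Spec (CommRingCat.of k))) ⟶ Z)
    (h : lift (𝟙 X) (toUnit X ≫ y₀) ≫ f = toUnit X ≫ z₀) : ∃ g : Y ⟶ Z, f = snd X Y ≫ g := by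
  let P : Over (Spec (CommRingCat.of k)) := Over.mk (Spec.map (CommRingCat.ofHom (algebraMap k (AlgebraicClosure k))))
  obtain ⟨g, hg, -⟩ := Groth.Agent.S18368.result k X Y Z f (AlgebraicClosure k) (toUnit P ≫ y₀) (toUnit P ≫ z₀) (by
    have e1 : X ◁ (toUnit P ≫ y₀) = fst X P ≫ lift (𝟙 X) (toUnit X ≫ y₀) := by
      apply CartesianMonoidalCategory.hom_ext
      · simp
      · simp only [whiskerLeft_snd, Category.assoc, lift_snd]
        rw [← Category.assoc, ← Category.assoc, toUnit_unique (snd X P ≫ toUnit P) (fst X P ≫ toUnit X)]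
    rw [e1, Category.assoc, h, ← Category.assoc, ← Category.assoc,
      toUnit_unique (fst X P ≫ toUnit X) (snd X P ≫ toUnit P)])
  exact ⟨g, hg⟩

/-- A morphism constant on two rational slices is constant. -/
theorem eq_const {X Y Z : Over (Spec (CommRingCat.of k))} [IsProper X.hom] [GeometricallyIntegral X.hom]
    [QuasiCompact Y.hom] [LocallyOfFiniteType Y.hom] [GeometricallyIntegral Y.hom] [IsSeparated Z.hom]
    (f : X ⊗ Y ⟶ Z) (x₀ : 𝟙_ (Over (Spec (CommRingCat.of k))) ⟶ X) (y₀ : 𝟙_ (Over (Spec (CommRingCat.of k))) ⟶ Y)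
    (z₀ : 𝟙_ (Over (Spec (CommRingCat.of k))) ⟶ Z) (hX : lift (𝟙 X) (toUnit X ≫ y₀) ≫ f = toUnit X ≫ z₀)
    (hY : lift (toUnit Y ≫ x₀) (𝟙 Y) ≫ f = toUnit Y ≫ z₀) : f = toUnit (X ⊗ Y) ≫ z₀ := by
  obtain ⟨g, hg⟩ := exists_factor_of_const f y₀ z₀ hX
  have h2 : g = toUnit Y ≫ z₀ := by
    rw [← hY, hg, ← Category.assoc, lift_snd, Category.id_comp]
  rw [hg, h2, ← Category.assoc, toUnit_unique (snd X Y ≫ toUnit Y) (toUnit (X ⊗ Y))]

/-- A pointed morphism on a product is the product of its restrictions to the factors. -/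
theorem eq_mul {X Y G : Over (Spec (CommRingCat.of k))} [IsProper X.hom] [GeometricallyIntegral X.hom]
    [QuasiCompact Y.hom] [LocallyOfFiniteType Y.hom] [GeometricallyIntegral Y.hom] [GrpObj G] [IsSeparated G.hom]
    (h : X ⊗ Y ⟶ G) (x₀ : 𝟙_ (Over (Spec (CommRingCat.of k))) ⟶ X) (y₀ : 𝟙_ (Over (Spec (CommRingCat.of k))) ⟶ Y)
    (h0 : lift x₀ y₀ ≫ h = η[G]) :
    h = (fst X Y ≫ lift (𝟙 X) (toUnit X ≫ y₀) ≫ h) * (snd X Y ≫ lift (toUnit Y ≫ x₀) (𝟙 Y) ≫ h) := by
  set h1 := lift (𝟙 X) (toUnit X ≫ y₀) ≫ h with h1def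
  set h2 := lift (toUnit Y ≫ x₀) (𝟙 Y) ≫ h with h2def
  have hv : (toUnit Y ≫ x₀) ≫ h1 = 1 := by
    rw [Category.assoc, h1def, comp_lift_assoc, Category.comp_id, ← Category.assoc x₀,
      toUnit_unique (x₀ ≫ toUnit X) (𝟙 _), Category.id_comp, h0, Hom.one_def]
  have hw : (toUnit X ≫ y₀) ≫ h2 = 1 := by
    rw [Category.assoc, h2def, comp_lift_assoc, Category.comp_id, ← Category.assoc y₀,
      toUnit_unique (y₀ ≫ toUnit Y) (𝟙 _), Category.id_comp, h0, Hom.one_def]
  have key := eq_const (h / ((fst X Y ≫ h1) * (snd X Y ≫ h2))) x₀ y₀ η[G]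
    (by rw [GrpObj.comp_div, MonObj.comp_mul, lift_fst_assoc, lift_snd_assoc, Category.id_comp, hw,
      _root_.mul_one, div_self', Hom.one_def])
    (by rw [GrpObj.comp_div, MonObj.comp_mul, lift_fst_assoc, lift_snd_assoc, Category.id_comp, hv,
      _root_.one_mul, div_self', Hom.one_def])
  rw [← Hom.one_def, div_eq_one] at key
  exact key

/-- Pointed morphisms from abelian varieties to separated group schemes are homomorphisms. -/
theorem isMonHom_of_one_hom {A G : Over (Spec (CommRingCat.of k))} [GrpObj A] [IsProper A.hom]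
    [GeometricallyIntegral A.hom] [GrpObj G] [IsSeparated G.hom] (f : A ⟶ G) (hf : η[A] ≫ f = η[G]) :
    IsMonHom f := by
  refine ⟨hf, ?_⟩
  have h0 : lift η[A] η[A] ≫ μ[A] ≫ f = η[G] := by
    have e : lift η[A] η[A] ≫ μ[A] = η[A] := by
      rw [← Hom.mul_def, show (η[A] : 𝟙_ _ ⟶ A) = 1 by rw [Hom.one_def, toUnit_unit, Category.id_comp],
        _root_.mul_one]
    rw [← Category.assoc, e, hf]
  rw [eq_mul (μ[A] ≫ f) η[A] η[A] h0, Hom.mul_def, tensorHom_def']
  congr 1
  apply CartesianMonoidalCategory.hom_ext <;> simp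

end Groth.Agent.H25Rig
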