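import Groth.Agent.H25Rig.GroupMaps
import Groth.Agent.H25AbCube.Square
import Groth.Agent.S11992
import Groth.Agent.H19Grp.Quotient

/-!
# Morphisms from products of varieties to abelian varieties
-/

set_option autoImplicit false
set_option linter.style.haveILetI false
set_option backward.isDefEq.respectTransparency false
universe u

open CategoryTheory CategoryTheory.Limits MonoidalCategory CartesianMonoidalCategory AlgebraicGeometry MonObj GrpObj
open Groth.Agent
open Groth.Agent.H25AbCube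

noncomputable section

namespace Groth.Agent.H25Rig

variable {R K : Type u} [Field R] [Field K] (σ : Spec (CommRingCat.of K) ⟶ Spec (CommRingCat.of R))
variable {A : Over (Spec (CommRingCat.of R))}

/-- A morphism out of a scheme over an extension, as a morphism to the base change of the target. -/
def toBC {X : Over (Spec (CommRingCat.of K))} (a : (Over.map σ).obj X ⟶ A) : X ⟶ (Over.pullback σ).obj A :=
  Over.homMk (pullback.lift a.left X.hom (Over.w a)) (pullback.lift_snd _ _ _)

theorem comp_toBC {X Y : Over (Spec (CommRingCat.of K))} (x : Y ⟶ X) (a : (Over.map σ).obj X ⟶ A) :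
    x ≫ toBC σ a = toBC σ ((Over.map σ).map x ≫ a) := by
  apply Over.OverMorphism.ext
  refine pullback.hom_ext ?_ ?_
  · simp [toBC]
  · simp [toBC, Over.w x]

theorem toBC_injective {X : Over (Spec (CommRingCat.of K))} :
    Function.Injective (toBC σ (A := A) (X := X)) := by
  intro a b h
  apply Over.OverMorphism.ext
  have := congrArg (fun c : X ⟶ (Over.pullback σ).obj A => c.left ≫ pullback.fst A.hom σ) h
  simpa [toBC] using this

/-- Morphisms to a separated scheme agreeing at all rational points of a variety over an algebraically closed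
field agree. -/
theorem ext_of_points [IsAlgClosed K] [IsSeparated A.hom] [LocallyOfFiniteType A.hom]
    {X : Over (Spec (CommRingCat.of K))} [LocallyOfFiniteType X.hom] [IsReduced X.left]
    {a b : (Over.map σ).obj X ⟶ A}
    (h : ∀ x : 𝟙_ _ ⟶ X, (Over.map σ).map x ≫ a = (Over.map σ).map x ≫ b) : a = b := by
  apply toBC_injective σ
  apply Over.OverMorphism.ext
  haveI : LocallyOfFiniteType ((toBC σ a).left ≫ pullback.snd A.hom σ) := by
    rw [show (toBC σ a).left ≫ pullback.snd A.hom σ = X.hom from Over.w (toBC σ a)]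
    infer_instance
  refine ext_of_apply_eq (X := X.left) (pullback.snd A.hom σ) (f := (toBC σ a).left) (g := (toBC σ b).left)
    Set.univ isClosed_univ.isLocallyClosed dense_univ (fun z _ hz => ?_)
    ((Over.w (toBC σ a)).trans (Over.w (toBC σ b)).symm)
  let x : 𝟙_ _ ⟶ X := Over.homMk _ ((pointEquivClosedPoint X.hom).symm ⟨z, hz⟩).2
  have h1 := congrArg (fun c : 𝟙_ _ ⟶ (Over.pullback σ).obj A => c.left)
    ((comp_toBC σ x a).trans ((congrArg (toBC σ) (h x)).trans (comp_toBC σ x b).symm))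
  have hx : x.left (IsLocalRing.closedPoint K) = z := pointOfClosedPoint_apply X.hom z hz _
  rw [← hx]
  exact congrArg (fun c : Spec (CommRingCat.of K) ⟶ _ => c (IsLocalRing.closedPoint K)) h1

section Curves

variable [GrpObj A] [IsProper A.hom] [GeometricallyIntegral A.hom]
variable (C D : Over (Spec (CommRingCat.of K)))

/-- The open box in a product of two schemes. -/
def box2 (O : C.left.Opens) (O' : D.left.Opens) : (C ⊗ D).left.Opens :=
  ((fst C D).left ⁻¹ᵁ O) ⊓ ((snd C D).left ⁻¹ᵁ O')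

/-- Morphisms from an open box in a product of proper curves satisfy the product relation. -/
theorem box_rel [Smooth C.hom] [IsProper C.hom] [GeometricallyIntegral C.hom]
    [Smooth D.hom] [IsProper D.hom] [GeometricallyIntegral D.hom]
    (O : C.left.Opens) (O' : D.left.Opens)
    (g : (box2 C D O O' : Scheme.{u}) ⟶ A.left) (hg : g ≫ A.hom = ((box2 C D O O').ι ≫ (C ⊗ D).hom) ≫ σ)
    (c c' : 𝟙_ _ ⟶ C) (d d' : 𝟙_ _ ⟶ D) (hc : c.left (IsLocalRing.closedPoint K) ∈ O)
    (hd : d.left (IsLocalRing.closedPoint K) ∈ O') :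
    ∃ h : (Over.map σ).obj (C ⊗ D) ⟶ A, (box2 C D O O').ι ≫ h.left = g ∧
      ((Over.map σ).map (lift c' d') ≫ h) * ((Over.map σ).map (lift c d') ≫ h)⁻¹ =
        ((Over.map σ).map (lift c' d) ≫ h) * ((Over.map σ).map (lift c d) ≫ h)⁻¹ := by
  let AK := (Over.pullback σ).obj A
  letI : GrpObj AK := Functor.grpObjObj
  haveI : IsProper AK.hom := MorphismProperty.pullback_snd (P := @IsProper) _ _ inferInstance
  haveI : GeometricallyIntegral AK.hom := MorphismProperty.pullback_snd (P := @GeometricallyIntegral) _ _ inferInstance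
  haveI : IsIntegral C.left := GeometricallyIntegral.isIntegral_of_subsingleton C.hom
  haveI : GeometricallyIntegral (C ⊗ D).hom := by
    show GeometricallyIntegral (pullback.fst C.hom D.hom ≫ C.hom)
    haveI : GeometricallyIntegral (pullback.fst C.hom D.hom) :=
      MorphismProperty.pullback_fst (P := @GeometricallyIntegral) _ _ inferInstance
    exact geometricallyIntegral_comp _ _
  haveI : Smooth (C ⊗ D).hom := by
    show Smooth (pullback.fst C.hom D.hom ≫ C.hom)
    haveI : Smooth (pullback.fst C.hom D.hom) := MorphismProperty.pullback_fst (P := @Smooth) _ _ inferInstance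
    infer_instance
  haveI : IsProper (C ⊗ D).hom := by
    show IsProper (pullback.fst C.hom D.hom ≫ C.hom)
    haveI : IsProper (pullback.fst C.hom D.hom) := MorphismProperty.pullback_fst (P := @IsProper) _ _ inferInstance
    infer_instance
  have hne : ((box2 C D O O') : Set (C ⊗ D).left).Nonempty := by
    refine ⟨(lift c d).left (IsLocalRing.closedPoint K), ?_, ?_⟩
    · show (fst C D).left ((lift c d).left _) ∈ O
      rw [← Scheme.Hom.comp_apply, ← Over.comp_left, lift_fst]
      exact hc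
    · show (snd C D).left ((lift c d).left _) ∈ O'
      rw [← Scheme.Hom.comp_apply, ← Over.comp_left, lift_snd]
      exact hd
  obtain ⟨e, he, heU⟩ := Groth.Agent.S11992.result K (C ⊗ D).left (C ⊗ D).hom AK (box2 C D O O') hne
    (pullback.lift g ((box2 C D O O').ι ≫ (C ⊗ D).hom) hg) (pullback.lift_snd _ _ _)
  let h : (Over.map σ).obj (C ⊗ D) ⟶ A := Over.homMk (e ≫ pullback.fst A.hom σ) (by
    show (e ≫ pullback.fst A.hom σ) ≫ A.hom = (C ⊗ D).hom ≫ σ
    rw [Category.assoc, pullback.condition, ← Category.assoc]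
    exact congrArg (· ≫ σ) he)
  refine ⟨h, ?_, ?_⟩
  · show (box2 C D O O').ι ≫ e ≫ pullback.fst A.hom σ = g
    rw [reassoc_of% heU, pullback.lift_fst]
  let F := Over.map σ
  let sX : C ⟶ C ⊗ D := lift (𝟙 C) (toUnit C ≫ d)
  let sY : D ⟶ C ⊗ D := lift (toUnit D ≫ c) (𝟙 D)
  let h2 := F.map sY ≫ h
  let θ₀ := h * (F.map (snd C D) ≫ h2)⁻¹
  let h1 := F.map sX ≫ θ₀
  let θ := (F.map (fst C D) ≫ h1)⁻¹ * θ₀
  have pt : ∀ (x : 𝟙_ _ ⟶ C) (y : 𝟙_ _ ⟶ D), F.map (lift x y) ≫ θ₀ =
      (F.map (lift x y) ≫ h) * (F.map (lift c y) ≫ h)⁻¹ := by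
    intro x y
    have e1 : y ≫ sY = lift c y := by ext : 1 <;> simp [sY]
    rw [MonObj.comp_mul, GrpObj.comp_inv, ← Functor.map_comp_assoc, lift_snd, ← Functor.map_comp_assoc, e1]
  have hX : F.map sX ≫ θ = 1 := by
    have e0 : sX ≫ fst C D = 𝟙 C := lift_fst _ _
    rw [MonObj.comp_mul, GrpObj.comp_inv, ← Functor.map_comp_assoc, e0, CategoryTheory.Functor.map_id, Category.id_comp,
      inv_mul_cancel]
  have hY : F.map sY ≫ θ = 1 := by
    have e0 : sY ≫ snd C D = 𝟙 D := lift_snd _ _
    have e1 : sY ≫ fst C D = toUnit D ≫ c := lift_fst _ _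
    have e2 : F.map sY ≫ θ₀ = 1 := by
      rw [MonObj.comp_mul, GrpObj.comp_inv, ← Functor.map_comp_assoc, e0, CategoryTheory.Functor.map_id, Category.id_comp,
        mul_inv_cancel]
    have e3 : F.map c ≫ h1 = 1 := by
      have : c ≫ sX = lift c d := by ext : 1 <;> simp [sX]
      rw [← Functor.map_comp_assoc, this, pt, mul_inv_cancel]
    rw [MonObj.comp_mul, GrpObj.comp_inv, e2, ← Functor.map_comp_assoc, e1, Functor.map_comp, Category.assoc, e3,
      MonObj.comp_one, inv_one, _root_.one_mul]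
  have one_toBC : ∀ X : Over (Spec (CommRingCat.of K)),
      toBC σ (1 : F.obj X ⟶ A) = toUnit X ≫ toBC σ (1 : F.obj (𝟙_ _) ⟶ A) := fun X => by
    rw [comp_toBC, MonObj.comp_one]
  have hθ : θ = 1 := by
    apply toBC_injective σ
    rw [one_toBC]
    refine eq_const (toBC σ θ) c d (toBC σ 1) ?_ ?_
    · rw [comp_toBC]; exact (congrArg (toBC σ) hX).trans (one_toBC C)
    · rw [comp_toBC]; exact (congrArg (toBC σ) hY).trans (one_toBC D)
  have key : θ₀ = F.map (fst C D) ≫ h1 := (inv_mul_eq_one.mp hθ).symm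
  have hf : ∀ y : 𝟙_ _ ⟶ D, F.map (lift c' y) ≫ θ₀ = F.map c' ≫ h1 := fun y => by
    rw [key, ← Functor.map_comp_assoc, lift_fst]
  exact ((pt c' d').symm.trans ((hf d').trans (hf d).symm)).trans (pt c' d)

end Curves

variable {k : Type u} [Field k] [Algebra k K]

/-- The value of a morphism at a pair of points with values in `K`. -/
def val (σ₀ : Spec (CommRingCat.of k) ⟶ Spec (CommRingCat.of R)) {V W : Over (Spec (CommRingCat.of k))}
    (f : (Over.map σ₀).obj (V ⊗ W) ⟶ A) (x : TK k K ⟶ V) (y : TK k K ⟶ W) :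
    (Over.map σ₀).obj (TK k K) ⟶ A :=
  (Over.map σ₀).map (lift x y) ≫ f

variable [GrpObj A] [IsProper A.hom] [GeometricallyIntegral A.hom]
  (σ₀ : Spec (CommRingCat.of k) ⟶ Spec (CommRingCat.of R)) {V W : Over (Spec (CommRingCat.of k))}
  (f : (Over.map σ₀).obj (V ⊗ W) ⟶ A)

/-- The product relation for linked pairs of points. -/
theorem val_link {x x' : TK k K ⟶ V} {y y' : TK k K ⟶ W} (l : Link V x x') (m : Link W y y') :
    val σ₀ f x' y' * (val σ₀ f x y')⁻¹ = val σ₀ f x' y * (val σ₀ f x y)⁻¹ := by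
  haveI := l.smooth; haveI := l.proper; haveI := l.geomIntegral
  haveI := m.smooth; haveI := m.proper; haveI := m.geomIntegral
  let B := box2 l.C m.C l.O m.O
  let a : (B : Scheme.{u}) ⟶ l.O := IsOpenImmersion.lift l.O.ι (B.ι ≫ (fst l.C m.C).left) (by
    rintro _ ⟨z, rfl⟩
    rw [Scheme.Opens.range_ι]
    exact z.2.1)
  let b : (B : Scheme.{u}) ⟶ m.O := IsOpenImmersion.lift m.O.ι (B.ι ≫ (snd l.C m.C).left) (by
    rintro _ ⟨z, rfl⟩
    rw [Scheme.Opens.range_ι]
    exact z.2.2)
  have ha : a ≫ l.O.ι = B.ι ≫ (fst l.C m.C).left := IsOpenImmersion.lift_fac _ _ _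
  have hb : b ≫ m.O.ι = B.ι ≫ (snd l.C m.C).left := IsOpenImmersion.lift_fac _ _ _
  have hψ : (a ≫ l.ψ.left) ≫ V.hom = (B.ι ≫ (l.C ⊗ m.C).hom) ≫ tK k K := by
    rw [Category.assoc, show l.ψ.left ≫ V.hom = (l.O.ι ≫ l.C.hom) ≫ tK k K from Over.w l.ψ]
    simp only [← Category.assoc]
    rw [ha, Category.assoc B.ι, Over.w (fst l.C m.C)]
  have hφ : (b ≫ m.ψ.left) ≫ W.hom = (B.ι ≫ (l.C ⊗ m.C).hom) ≫ tK k K := by
    rw [Category.assoc, show m.ψ.left ≫ W.hom = (m.O.ι ≫ m.C.hom) ≫ tK k K from Over.w m.ψ]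
    simp only [← Category.assoc]
    rw [hb, Category.assoc B.ι, Over.w (snd l.C m.C)]
  let Φ : (B : Scheme.{u}) ⟶ (V ⊗ W).left :=
    pullback.lift (a ≫ l.ψ.left) (b ≫ m.ψ.left) (hψ.trans hφ.symm)
  let σ : Spec (CommRingCat.of K) ⟶ Spec (CommRingCat.of R) := tK k K ≫ σ₀
  have hΦ : (Φ ≫ f.left) ≫ A.hom = (B.ι ≫ (l.C ⊗ m.C).hom) ≫ σ := by
    rw [Category.assoc, show f.left ≫ A.hom = (V ⊗ W).hom ≫ σ₀ from Over.w f, ← Category.assoc (B.ι ≫ _), ← hψ]
    show Φ ≫ (pullback.fst V.hom W.hom ≫ V.hom) ≫ σ₀ = _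
    simp [Φ]
  have mem : ∀ (L : Over (Spec (CommRingCat.of K))) (O : L.left.Opens) (p : Spec (CommRingCat.of K) ⟶ O)
      (hp : p ≫ O.ι ≫ L.hom = 𝟙 _), (ptO p hp).left (IsLocalRing.closedPoint K) ∈ O :=
    fun L O p hp => (p (IsLocalRing.closedPoint K)).2
  obtain ⟨h, hh, hrel⟩ := box_rel σ l.C m.C l.O m.O (Φ ≫ f.left) hΦ (ptO l.p l.hp) (ptO l.p' l.hp')
    (ptO m.p m.hp) (ptO m.p' m.hp') (mem _ _ _ _) (mem _ _ _ _)
  let ε : (Over.map σ₀).obj (TK k K) ⟶ (Over.map σ).obj (𝟙_ _) := Over.homMk (𝟙 (Spec (CommRingCat.of K)))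
    ((Category.id_comp _).trans (congrArg (· ≫ σ₀) (Category.id_comp (tK k K))) |>.trans rfl)
  have key : ∀ (r : Spec (CommRingCat.of K) ⟶ l.O) (hr : r ≫ l.O.ι ≫ l.C.hom = 𝟙 _)
      (s : Spec (CommRingCat.of K) ⟶ m.O) (hs : s ≫ m.O.ι ≫ m.C.hom = 𝟙 _)
      (u : TK k K ⟶ V) (v : TK k K ⟶ W), r ≫ l.ψ.left = u.left → s ≫ m.ψ.left = v.left →
      ε ≫ (Over.map σ).map (lift (ptO r hr) (ptO s hs)) ≫ h = val σ₀ f u v := by
    intro r hr s hs u v hu hv
    let q : Spec (CommRingCat.of K) ⟶ B := IsOpenImmersion.lift B.ι (lift (ptO r hr) (ptO s hs)).left (by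
      rintro _ ⟨z, rfl⟩
      rw [Scheme.Opens.range_ι]
      refine ⟨?_, ?_⟩
      · show (fst l.C m.C).left ((lift (ptO r hr) (ptO s hs)).left z) ∈ l.O
        rw [← Scheme.Hom.comp_apply, ← Over.comp_left, lift_fst]
        exact (r z).2
      · show (snd l.C m.C).left ((lift (ptO r hr) (ptO s hs)).left z) ∈ m.O
        rw [← Scheme.Hom.comp_apply, ← Over.comp_left, lift_snd]
        exact (s z).2)
    have hq : q ≫ B.ι = (lift (ptO r hr) (ptO s hs)).left := IsOpenImmersion.lift_fac _ _ _
    have qa : q ≫ a = r := by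
      rw [← cancel_mono l.O.ι, Category.assoc, ha, reassoc_of% hq, ← Over.comp_left, lift_fst]
      rfl
    have qb : q ≫ b = s := by
      rw [← cancel_mono m.O.ι, Category.assoc, hb, reassoc_of% hq, ← Over.comp_left, lift_snd]
      rfl
    apply Over.OverMorphism.ext
    show 𝟙 _ ≫ (lift (ptO r hr) (ptO s hs)).left ≫ h.left = (lift u v).left ≫ f.left
    rw [Category.id_comp, ← hq, Category.assoc, hh, ← Category.assoc]
    refine congrArg (· ≫ f.left) (pullback.hom_ext ?_ ?_)
    · rw [Category.assoc, pullback.lift_fst, reassoc_of% qa, hu]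
      exact congrArg (fun z : TK k K ⟶ V => z.left) (lift_fst u v).symm
    · rw [Category.assoc, pullback.lift_snd, reassoc_of% qb, hv]
      exact congrArg (fun z : TK k K ⟶ W => z.left) (lift_snd u v).symm
  have := congrArg (ε ≫ ·) hrel
  simp only [MonObj.comp_mul, GrpObj.comp_inv] at this
  rwa [key _ _ _ _ _ _ l.hx' m.hx', key _ _ _ _ _ _ l.hx m.hx', key _ _ _ _ _ _ l.hx' m.hx,
    key _ _ _ _ _ _ l.hx m.hx] at this

/-- The product relation along chains of links. -/
theorem val_eqvGen {x x' : TK k K ⟶ V} {y y' : TK k K ⟶ W} (hx : Relation.EqvGen (Linked V) x x')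
    (hy : Relation.EqvGen (Linked W) y y') :
    val σ₀ f x' y' * (val σ₀ f x y')⁻¹ = val σ₀ f x' y * (val σ₀ f x y)⁻¹ := by
  induction hy with
  | refl a => rfl
  | symm a b _ ih => exact ih.symm
  | trans a b c _ _ ih ih' => exact ih'.trans ih
  | rel a b h =>
    obtain ⟨m⟩ := h
    induction hx with
    | rel p q h' => obtain ⟨l⟩ := h'; exact val_link σ₀ f l m
    | refl p => simp
    | symm p q _ ih =>
      have := congrArg (·⁻¹) ih
      simpa [_root_.mul_inv_rev] using this
    | trans p q r _ _ ih ih' =>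
      calc val σ₀ f r b * (val σ₀ f p b)⁻¹
          = (val σ₀ f r b * (val σ₀ f q b)⁻¹) * (val σ₀ f q b * (val σ₀ f p b)⁻¹) := by group
        _ = (val σ₀ f r a * (val σ₀ f q a)⁻¹) * (val σ₀ f q a * (val σ₀ f p a)⁻¹) := by rw [ih', ih]
        _ = val σ₀ f r a * (val σ₀ f p a)⁻¹ := by group

/-- The product relation at rational points of varieties over an algebraically closed field. -/
theorem val_rat [IsAlgClosed k] [LocallyOfFiniteType V.hom] [GeometricallyIntegral V.hom]
    [LocallyOfFiniteType W.hom] [GeometricallyIntegral W.hom] (a a' : 𝟙_ _ ⟶ V) (b b' : 𝟙_ _ ⟶ W) :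
    ((Over.map σ₀).map (lift a' b') ≫ f) * ((Over.map σ₀).map (lift a b') ≫ f)⁻¹ =
      ((Over.map σ₀).map (lift a' b) ≫ f) * ((Over.map σ₀).map (lift a b) ≫ f)⁻¹ := by
  classical
  obtain ⟨K₁, iF₁, iA₁, iC₁, h₁⟩ := exists_linked_field V
  obtain ⟨K₂, iF₂, iA₂, iC₂, h₂⟩ := exists_linked_field W
  haveI : IsDomain (TensorProduct k K₁ K₂) := H19Grp.isDomain_tensorProduct K₁ K₂
  let L := AlgebraicClosure (FractionRing (TensorProduct k K₁ K₂))
  let e₁ : K₁ →ₐ[k] L := (IsScalarTower.toAlgHom k (TensorProduct k K₁ K₂) L).comp Algebra.TensorProduct.includeLeft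
  let e₂ : K₂ →ₐ[k] L := (IsScalarTower.toAlgHom k (TensorProduct k K₁ K₂) L).comp Algebra.TensorProduct.includeRight
  have hV : Relation.EqvGen (Linked (K := L) V) (constPt L a) (constPt L a') := by
    have := eqvGen_res e₁ (h₁ a a')
    rwa [res_constPt, res_constPt] at this
  have hW : Relation.EqvGen (Linked (K := L) W) (constPt L b) (constPt L b') := by
    have := eqvGen_res e₂ (h₂ b b')
    rwa [res_constPt, res_constPt] at this
  have hrel := val_eqvGen σ₀ f hV hW
  have hc : ∀ (p : 𝟙_ _ ⟶ V) (q : 𝟙_ _ ⟶ W), val σ₀ f (constPt L p) (constPt L q) =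
      (Over.map σ₀).map (toUnit (TK k L)) ≫ (Over.map σ₀).map (lift p q) ≫ f := fun p q => by
    rw [val, ← Functor.map_comp_assoc, comp_lift, constPt, constPt]
  have e : ∀ x y : (Over.map σ₀).obj (𝟙_ _) ⟶ A, ((Over.map σ₀).map (toUnit (TK k L)) ≫ x) *
      ((Over.map σ₀).map (toUnit (TK k L)) ≫ y)⁻¹ = (Over.map σ₀).map (toUnit (TK k L)) ≫ (x * y⁻¹) :=
    fun x y => by rw [MonObj.comp_mul, GrpObj.comp_inv]
  rw [hc, hc, hc, hc, e, e] at hrel
  haveI : Flat ((Over.map σ₀).map (toUnit (TK k L))).left :=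
    show Flat (tK k L) from inferInstance
  haveI : Surjective ((Over.map σ₀).map (toUnit (TK k L))).left :=
    ⟨fun z => ⟨IsLocalRing.closedPoint L, Subsingleton.elim (α := PrimeSpectrum k) _ _⟩⟩
  haveI := Flat.epi_of_flat_of_surjective ((Over.map σ₀).map (toUnit (TK k L))).left
  haveI : Epi ((Over.map σ₀).map (toUnit (TK k L))) := Over.epi_of_epi_left _
  exact (cancel_epi _).1 hrel

end Groth.Agent.H25Rig

/-- Morphisms from a product of varieties to an abelian variety split off the second factor. -/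
theorem Groth.Agent.H25Rig.exists_split {k : Type u} [Field k] {V W A : Over (Spec (CommRingCat.of k))}
    [GrpObj A] [IsProper A.hom] [GeometricallyIntegral A.hom]
    [LocallyOfFiniteType V.hom] [GeometricallyIntegral V.hom]
    [QuasiCompact W.hom] [LocallyOfFiniteType W.hom] [GeometricallyIntegral W.hom]
    (v₀ : 𝟙_ _ ⟶ V) (f : V ⊗ W ⟶ A) :
    ∃ f₁ : V ⟶ A, f = (fst V W ≫ f₁) * (snd V W ≫ lift (toUnit W ≫ v₀) (𝟙 W) ≫ f) := by
  let f₂ := lift (toUnit W ≫ v₀) (𝟙 W) ≫ f
  let θ := f * (snd V W ≫ f₂)⁻¹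
  have hθ : ∀ {T : Over (Spec (CommRingCat.of k))} (x : T ⟶ V) (y : T ⟶ W),
      lift x y ≫ θ = (lift x y ≫ f) * (lift (toUnit T ≫ v₀) y ≫ f)⁻¹ := by
    intro T x y
    rw [MonObj.comp_mul, GrpObj.comp_inv, lift_snd_assoc, comp_lift_assoc, Category.comp_id, ← Category.assoc,
      toUnit_unique (y ≫ toUnit W) (toUnit T)]
  let X := V ⊗ (W ⊗ W)
  let p : X ⟶ V := fst _ _
  let q : X ⟶ W := snd _ _ ≫ fst _ _
  let r : X ⟶ W := snd _ _ ≫ snd _ _
  have hX : lift p q ≫ θ = lift p r ≫ θ := by
    let L := AlgebraicClosure k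
    let σ := tK k L
    let F := Over.pullback σ
    let V' := F.obj V; let W' := F.obj W; let X' := F.obj X
    haveI : GeometricallyIntegral V'.hom := MorphismProperty.pullback_snd (P := @GeometricallyIntegral) _ _ inferInstance
    haveI : GeometricallyIntegral W'.hom := MorphismProperty.pullback_snd (P := @GeometricallyIntegral) _ _ inferInstance
    haveI : LocallyOfFiniteType V'.hom := MorphismProperty.pullback_snd (P := @LocallyOfFiniteType) _ _ inferInstance
    haveI : LocallyOfFiniteType W'.hom := MorphismProperty.pullback_snd (P := @LocallyOfFiniteType) _ _ inferInstance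
    haveI : LocallyOfFiniteType (W ⊗ W).hom := by
      show LocallyOfFiniteType (pullback.fst W.hom W.hom ≫ W.hom)
      haveI : LocallyOfFiniteType (pullback.fst W.hom W.hom) :=
        MorphismProperty.pullback_fst (P := @LocallyOfFiniteType) _ _ inferInstance
      infer_instance
    haveI : GeometricallyIntegral (W ⊗ W).hom := by
      show GeometricallyIntegral (pullback.fst W.hom W.hom ≫ W.hom)
      haveI : GeometricallyIntegral (pullback.fst W.hom W.hom) :=
        MorphismProperty.pullback_fst (P := @GeometricallyIntegral) _ _ inferInstance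
      exact Groth.Agent.H25Rig.geometricallyIntegral_comp _ _
    haveI : LocallyOfFiniteType X.hom := by
      show LocallyOfFiniteType (pullback.fst V.hom (W ⊗ W).hom ≫ V.hom)
      haveI : LocallyOfFiniteType (pullback.fst V.hom (W ⊗ W).hom) :=
        MorphismProperty.pullback_fst (P := @LocallyOfFiniteType) _ _ inferInstance
      infer_instance
    haveI : GeometricallyIntegral X.hom := by
      show GeometricallyIntegral (pullback.fst V.hom (W ⊗ W).hom ≫ V.hom)
      haveI : GeometricallyIntegral (pullback.fst V.hom (W ⊗ W).hom) :=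
        MorphismProperty.pullback_fst (P := @GeometricallyIntegral) _ _ inferInstance
      exact Groth.Agent.H25Rig.geometricallyIntegral_comp _ _
    haveI : LocallyOfFiniteType X'.hom := MorphismProperty.pullback_snd (P := @LocallyOfFiniteType) _ _ inferInstance
    haveI : GeometricallyIntegral X'.hom := MorphismProperty.pullback_snd (P := @GeometricallyIntegral) _ _ inferInstance
    haveI : IsIntegral X'.left := GeometricallyIntegral.isIntegral_of_subsingleton X'.hom
    let ad := Over.mapPullbackAdj σ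
    let π := ad.counit.app
    let j : (Over.map σ).obj (V' ⊗ W') ⟶ V ⊗ W :=
      lift ((Over.map σ).map (fst V' W') ≫ π V) ((Over.map σ).map (snd V' W') ≫ π W)
    haveI : Flat (π X).left := by
      show Flat ((Over.mapPullbackAdj σ).counit.app X).left
      rw [Over.mapPullbackAdj_counit_app]
      exact MorphismProperty.pullback_fst (P := @Flat) _ _ inferInstance
    haveI : Surjective (π X).left := by
      show Surjective ((Over.mapPullbackAdj σ).counit.app X).left
      rw [Over.mapPullbackAdj_counit_app]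
      haveI : Surjective σ := ⟨fun z => ⟨IsLocalRing.closedPoint L, Subsingleton.elim (α := PrimeSpectrum k) _ _⟩⟩
      exact MorphismProperty.pullback_fst (P := @Surjective) _ _ inferInstance
    haveI := Flat.epi_of_flat_of_surjective (π X).left
    haveI : Epi (π X) := Over.epi_of_epi_left _
    rw [← cancel_epi (π X)]
    refine Groth.Agent.H25Rig.ext_of_points σ fun z => ?_
    let a : 𝟙_ _ ⟶ V' := z ≫ F.map p
    let b : 𝟙_ _ ⟶ W' := z ≫ F.map q
    let b' : 𝟙_ _ ⟶ W' := z ≫ F.map r
    let a₀ : 𝟙_ _ ⟶ V' := ad.homEquiv _ _ (toUnit _ ≫ v₀)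
    have nat : ∀ {Y : Over (Spec (CommRingCat.of k))} (g : X ⟶ Y),
        (Over.map σ).map z ≫ π X ≫ g = (Over.map σ).map (z ≫ F.map g) ≫ π Y := by
      intro Y g
      rw [Functor.map_comp, Category.assoc]
      exact congrArg _ (ad.counit.naturality g).symm
    have hj : ∀ (x : 𝟙_ _ ⟶ V') (y : 𝟙_ _ ⟶ W'), (Over.map σ).map (lift x y) ≫ j =
        lift ((Over.map σ).map x ≫ π V) ((Over.map σ).map y ≫ π W) := by
      intro x y
      rw [comp_lift, ← Functor.map_comp_assoc, ← Functor.map_comp_assoc, lift_fst, lift_snd]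
    have ha₀ : (Over.map σ).map a₀ ≫ π V = toUnit _ ≫ v₀ := by
      exact (ad.homEquiv_counit _ _ a₀).symm.trans (Equiv.symm_apply_apply _ _)
    have h := Groth.Agent.H25Rig.val_rat σ (j ≫ f) a₀ a b b'
    simp only [← Category.assoc] at h
    simp only [hj] at h
    rw [ha₀] at h
    have key : ∀ (x : X ⟶ V) (y : X ⟶ W), (Over.map σ).map z ≫ π X ≫ lift x y ≫ f =
        lift ((Over.map σ).map z ≫ π X ≫ x) ((Over.map σ).map z ≫ π X ≫ y) ≫ f := fun x y => by
      simp only [← Category.assoc, comp_lift]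
    rw [hθ, hθ]
    simp only [MonObj.comp_mul, GrpObj.comp_inv, key]
    have e0 : (Over.map σ).map z ≫ π X ≫ toUnit X ≫ v₀ = toUnit _ ≫ v₀ := by
      rw [← Category.assoc (π X), ← Category.assoc]
      exact congrArg (· ≫ v₀) (toUnit_unique _ _)
    rw [e0, nat, nat, nat]
    exact h.symm
  obtain ⟨v⟩ : Nonempty V.left := ⟨v₀.left (IsLocalRing.closedPoint k)⟩
  haveI : Flat (fst V W).left := by
    show Flat (pullback.fst V.hom W.hom)
    exact MorphismProperty.pullback_fst (P := @Flat) _ _ inferInstance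
  haveI : Surjective (fst V W).left := by
    show Surjective (pullback.fst V.hom W.hom)
    exact MorphismProperty.pullback_fst (P := @Surjective) _ _ inferInstance
  haveI : QuasiCompact (fst V W).left := by
    show QuasiCompact (pullback.fst V.hom W.hom)
    exact MorphismProperty.pullback_fst (P := @QuasiCompact) _ _ inferInstance
  obtain ⟨f₁, hf₁, -⟩ := Groth.Agent.H19Grp.existsUnique_desc_over (fst V W) θ fun T a b h => by
    let t : T ⟶ X := lift (a ≫ fst V W) (lift (a ≫ snd V W) (b ≫ snd V W))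
    have e1 : a = t ≫ lift p q := by ext : 1 <;> simp [t, p, q]
    have e2 : b = t ≫ lift p r := by ext : 1 <;> simp [t, p, r, h]
    rw [e1, e2, Category.assoc, Category.assoc, hX]
  exact ⟨f₁, by rw [hf₁]; exact (inv_mul_cancel_right f (snd V W ≫ f₂)).symm⟩

/-- The first projection from a product with a variety is an epimorphism. -/
theorem Groth.Agent.H25Rig.epi_fst {k : Type u} [Field k] (V W : Over (Spec (CommRingCat.of k)))
    [QuasiCompact W.hom] [GeometricallyIntegral W.hom] : Epi (fst V W) := by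
  haveI : Flat (fst V W).left := by
    show Flat (pullback.fst V.hom W.hom)
    exact MorphismProperty.pullback_fst (P := @Flat) _ _ inferInstance
  haveI : Surjective (fst V W).left := by
    show Surjective (pullback.fst V.hom W.hom)
    exact MorphismProperty.pullback_fst (P := @Surjective) _ _ inferInstance
  haveI := Flat.epi_of_flat_of_surjective (fst V W).left
  exact Over.epi_of_epi_left _
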